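import Groth.Agent.GenLines.Step
import Groth.Agent.HilbLow.Main

/-!
# Forms of degrees `1, 2, …`: either few common zeros or many conditions on the coefficients
-/

set_option autoImplicit false
noncomputable section

open MvPolynomial

universe u v

namespace Groth.Agent.GenLines

variable {k : Type u} {Ω : Type v} [Field k] [Field Ω] [Algebra k Ω] [IsAlgClosed Ω]

/-- Either some `N - d` rational linear forms cut the common zeros of the first `d` forms down to the origin, or
the coefficients of these forms depend on at least `N` fewer parameters. -/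
theorem chain [Infinite k] {N : ℕ} (g : ℕ → MvPolynomial (Fin N) Ω) (hg : ∀ i, (g i).IsHomogeneous (i + 1)) :
    ∀ d, d < N → ((∃ Q : Fin (N - d) → Fin N → k, ∀ x : Fin N → Ω, (∀ i, i < d → eval x (g i) = 0) →
        (∀ b, dot (Q b) x = 0) → x = 0) ∨
      ∃ S : Finset Ω, S.card + N ≤ ∑ i ∈ Finset.range d, (mons N (i + 1)).card ∧
        ∀ i, i < d → ∀ β, coeff β (g i) ∈ Cl k (S : Set Ω)) := by
  classical
  intro d
  induction d with
  | zero =>
    refine fun _ => Or.inl ⟨fun b => Pi.single b 1, fun x _ hx => funext fun l => ?_⟩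
    have h := hx l
    simp only [dot, Pi.single_apply, apply_ite (algebraMap k Ω), map_one, map_zero, ite_mul, one_mul,
      zero_mul] at h
    simpa using h
  | succ d ih =>
    intro hd
    rcases ih (by omega) with ⟨Q, hQ⟩ | ⟨S, hS, hS'⟩
    swap
    · refine Or.inr ⟨S ∪ (mons N (d + 1)).image (fun β => coeff β (g d)), ?_, fun i hi β => ?_⟩
      · rw [Finset.sum_range_succ]
        have h1 := Finset.card_union_le S ((mons N (d + 1)).image (fun β => coeff β (g d)))
        have h2 : ((mons N (d + 1)).image (fun β => coeff β (g d))).card ≤ (mons N (d + 1)).card :=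
          Finset.card_image_le
        omega
      · rcases Nat.lt_succ_iff_lt_or_eq.1 hi with h | rfl
        · exact Cl_mono k (fun s hs => subset_Cl k _ (Finset.mem_coe.2 (Finset.mem_union_left _ hs))) (hS' i h β)
        · by_cases hβ : β ∈ mons N (i + 1)
          · exact subset_Cl k _ (Finset.mem_coe.2 (Finset.mem_union_right _ (Finset.mem_image_of_mem _ hβ)))
          · rw [(hg i).coeff_eq_zero fun h => hβ (mem_mons.2 h)]
            exact zero_mem _
    obtain ⟨m, hm⟩ : ∃ m, N - d = m + 1 := ⟨N - d - 1, by omega⟩
    let T₀ : Finset Ω := (Finset.range d).biUnion fun i => (mons N (i + 1)).image fun β => coeff β (g i)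
    have hT : ∀ i, i < d → ∀ β, coeff β (g i) ∈ Cl k (T₀ : Set Ω) := fun i hi β => by
      by_cases hβ : β ∈ mons N (i + 1)
      · exact subset_Cl k _ (Finset.mem_coe.2 (Finset.mem_biUnion.2
          ⟨i, Finset.mem_range.2 hi, Finset.mem_image_of_mem _ hβ⟩))
      · rw [(hg i).coeff_eq_zero fun h => hβ (mem_mons.2 h)]
        exact zero_mem _
    rcases step (k := k) (m := m) (j := d + 1) (by omega) (T₀ : Set Ω) (fun i : Fin d => g i.1) (fun i => i.1 + 1)
        (fun i => hg i.1) (fun i β => hT i.1 i.2 β) (fun b => Q (Fin.cast hm.symm b))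
        (fun x hx hxq => hQ x (fun i hi => hx ⟨i, hi⟩) fun b => by
          simpa using hxq (Fin.cast hm b))
        (g d) (hg d) with ⟨Q', hQ'⟩ | ⟨S, hS, hS'⟩
    · obtain rfl : m = N - (d + 1) := by omega
      exact Or.inl ⟨Q', fun x hx hxq => hQ' x (fun i => hx i.1 (by omega)) (hx d (Nat.lt_succ_self d)) hxq⟩
    · refine Or.inr ⟨T₀ ∪ S, ?_, fun i hi β => ?_⟩
      · rw [Finset.sum_range_succ]
        have h1 := Finset.card_union_le T₀ S
        have h2 : T₀.card ≤ ∑ i ∈ Finset.range d, (mons N (i + 1)).card :=
          Finset.card_biUnion_le.trans (Finset.sum_le_sum fun i _ => Finset.card_image_le)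
        have h3 : N ≤ (m + 1 + (d + 1) - 1).choose (d + 1) := by
          rw [show m + 1 + (d + 1) - 1 = N by omega]
          exact Groth.Agent.HilbLow.le_choose N (d + 1) (by omega) hd
        omega
      · rw [Finset.coe_union]
        rcases Nat.lt_succ_iff_lt_or_eq.1 hi with h | rfl
        · exact Cl_mono k (Set.subset_union_left.trans (subset_Cl k _)) (hT i h β)
        · exact hS' β

end Groth.Agent.GenLines
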