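import Groth.Agent.GenLines.Chain

/-!
# Taylor components of a form at a point of a chart
-/

set_option autoImplicit false
noncomputable section

open MvPolynomial

universe u v

namespace Groth.Agent.GenLines

variable {R : Type*} [CommRing R] {n : ℕ} (i : Fin (n + 1))

/-- Substitution `x = v + y` with `y` in the coordinate hyperplane. -/
def sub (v : Fin (n + 1) → R) : Fin (n + 1) → MvPolynomial (Fin n) R :=
  fun l => C (v l) + i.insertNth (α := fun _ => MvPolynomial (Fin n) R) 0 X l

/-- The expansion of `Φ` around `v` in the hyperplane. -/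
def shift (v : Fin (n + 1) → R) (Φ : MvPolynomial (Fin (n + 1)) R) : MvPolynomial (Fin n) R :=
  bind₁ (sub i v) Φ

/-- The Taylor component of degree `j`. -/
def part (v : Fin (n + 1) → R) (Φ : MvPolynomial (Fin (n + 1)) R) (j : ℕ) : MvPolynomial (Fin n) R :=
  homogeneousComponent j (shift i v Φ)

theorem part_isHomogeneous (v : Fin (n + 1) → R) (Φ : MvPolynomial (Fin (n + 1)) R) (j : ℕ) :
    (part i v Φ j).IsHomogeneous j := homogeneousComponent_isHomogeneous _ _

theorem eval_shift (v : Fin (n + 1) → R) (Φ : MvPolynomial (Fin (n + 1)) R) (y : Fin n → R) :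
    eval y (shift i v Φ) = eval (fun l => v l + i.insertNth (α := fun _ => R) 0 y l) Φ := by
  rw [shift]
  induction Φ using MvPolynomial.induction_on with
  | C a => simp
  | add p q hp hq => simp only [map_add] at *; rw [hp, hq]
  | mul_X p l hp =>
    simp only [map_mul, bind₁_X_right, eval_X] at *
    rw [hp]
    congr 1
    simp only [sub, map_add, eval_C]
    congr 1
    rcases Fin.eq_self_or_eq_succAbove i l with rfl | ⟨a, rfl⟩
    · simp
    · simp

theorem map_shift {S : Type*} [CommRing S] (f : R →+* S) (v : Fin (n + 1) → R) (Φ : MvPolynomial (Fin (n + 1)) R) :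
    MvPolynomial.map f (shift i v Φ) = shift i (fun l => f (v l)) (MvPolynomial.map f Φ) := by
  rw [shift, shift, map_bind₁]
  congr 2
  funext l
  rcases Fin.eq_self_or_eq_succAbove i l with rfl | ⟨a, rfl⟩ <;> simp [sub]

theorem map_part {S : Type*} [CommRing S] (f : R →+* S) (v : Fin (n + 1) → R) (Φ : MvPolynomial (Fin (n + 1)) R)
    (j : ℕ) : MvPolynomial.map f (part i v Φ j) = part i (fun l => f (v l)) (MvPolynomial.map f Φ) j := by
  classical
  ext β
  rw [part, part, ← map_shift, coeff_map, coeff_homogeneousComponent, coeff_homogeneousComponent, coeff_map]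
  split_ifs <;> simp

theorem coeff_shift_zero (v : Fin (n + 1) → R) (Φ : MvPolynomial (Fin (n + 1)) R) :
    coeff 0 (shift i v Φ) = eval v Φ := by
  rw [← constantCoeff_eq, ← eval_zero, eval_shift]
  congr 2
  funext l
  rcases Fin.eq_self_or_eq_succAbove i l with rfl | ⟨a, rfl⟩ <;> simp

theorem totalDegree_shift_le (v : Fin (n + 1) → R) {Φ : MvPolynomial (Fin (n + 1)) R} {d : ℕ}
    (hΦ : Φ.IsHomogeneous d) : (shift i v Φ).totalDegree ≤ d := by
  rw [shift, as_sum Φ, map_sum]
  refine (totalDegree_finsetSum _ _).trans (Finset.sup_le fun β hβ => ?_)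
  rw [bind₁_monomial]
  refine (totalDegree_mul _ _).trans ?_
  rw [totalDegree_C, zero_add]
  refine (totalDegree_finsetProd _ _).trans ?_
  have hsum : ∑ l ∈ β.support, β l = d := by
    have := hΦ (mem_support_iff.1 hβ)
    rw [← this, Finsupp.weight_apply, Finsupp.sum]
    simp
  rw [← hsum]
  refine Finset.sum_le_sum fun l _ => (totalDegree_pow _ _).trans ?_
  refine (Nat.mul_le_mul_left _ (?_ : (sub i v l).totalDegree ≤ 1)).trans (by simp)
  refine (totalDegree_add _ _).trans (max_le (by rw [totalDegree_C]; exact Nat.zero_le _) ?_)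
  rcases Fin.eq_self_or_eq_succAbove i l with rfl | ⟨a, rfl⟩
  · simp
  · rcases subsingleton_or_nontrivial R with hR | hR
    · rw [Fin.insertNth_apply_succAbove, Subsingleton.elim (X a : MvPolynomial (Fin n) R) 0]; simp
    · simp

/-- Dehomogenisation. -/
def dehom (Φ : MvPolynomial (Fin (n + 1)) R) : MvPolynomial (Fin n) R :=
  bind₁ (i.insertNth (α := fun _ => MvPolynomial (Fin n) R) 1 X) Φ

theorem dehom_eq (v : Fin (n + 1) → R) (hv : v i = 1) (Φ : MvPolynomial (Fin (n + 1)) R) :
    bind₁ (fun a => X a - C (v (i.succAbove a))) (shift i v Φ) = dehom i Φ := by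
  rw [shift, bind₁_bind₁, dehom]
  congr 2
  funext l
  rcases Fin.eq_self_or_eq_succAbove i l with rfl | ⟨a, rfl⟩ <;> simp [sub, hv]

theorem coeff_dehom {Φ : MvPolynomial (Fin (n + 1)) R} {d : ℕ} (hΦ : Φ.IsHomogeneous d)
    (β : Fin (n + 1) →₀ ℕ) (hβ : β.degree = d) :
    coeff (β.comapDomain i.succAbove Fin.succAbove_right_injective.injOn) (dehom i Φ) = coeff β Φ := by
  classical
  have hmono : ∀ (γ : Fin (n + 1) →₀ ℕ) (c : R), dehom i (monomial γ c) =
      monomial (γ.comapDomain i.succAbove Fin.succAbove_right_injective.injOn) c := fun γ c => by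
    rw [dehom, bind₁_monomial, monomial_eq]
    congr 1
    rw [Finset.prod_subset (Finset.subset_univ _) (fun l _ hl => by simp [Finsupp.notMem_support_iff.1 hl]),
      Fin.prod_univ_succAbove _ i, Finsupp.prod_pow]
    simp
  have hinj : ∀ γ : Fin (n + 1) →₀ ℕ, γ.degree = d →
      γ.comapDomain i.succAbove Fin.succAbove_right_injective.injOn =
        β.comapDomain i.succAbove Fin.succAbove_right_injective.injOn → γ = β := fun γ hγ h => by
    have h' : ∀ a, γ (i.succAbove a) = β (i.succAbove a) := fun a => by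
      have := Finsupp.ext_iff.1 h a
      simpa using this
    ext l
    rcases Fin.eq_self_or_eq_succAbove i l with rfl | ⟨a, rfl⟩
    · rw [Finsupp.degree_eq_sum, Fin.sum_univ_succAbove _ l] at hγ hβ
      simp only [h'] at hγ
      omega
    · exact h' a
  show coeff _ (bind₁ _ Φ) = _
  conv_lhs => rw [as_sum Φ, map_sum]
  rw [coeff_sum, Finset.sum_eq_single β]
  · show coeff _ (dehom i (monomial β _)) = _
    rw [hmono, coeff_monomial, if_pos rfl]
  · intro γ hγ hne
    show coeff _ (dehom i (monomial γ _)) = _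
    rw [hmono, coeff_monomial, if_neg fun h => hne (hinj γ ?_ h)]
    rw [Finsupp.degree_eq_weight_one]
    exact hΦ (mem_support_iff.1 hγ)
  · intro h
    simp [notMem_support_iff.1 h]

/-- The coefficients of a form lie in a subfield containing the point and the coefficients of the expansion. -/
theorem coeff_mem {k : Type u} {Ω : Type v} [Field k] [Field Ω] [Algebra k Ω] (K : IntermediateField k Ω)
    (v : Fin (n + 1) → Ω) (hv : v i = 1) (hvK : ∀ a, v (i.succAbove a) ∈ K) {d : ℕ}
    {Φ : MvPolynomial (Fin (n + 1)) Ω} (hΦ : Φ.IsHomogeneous d) (h : ∀ γ, coeff γ (shift i v Φ) ∈ K)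
    (β : Fin (n + 1) →₀ ℕ) : coeff β Φ ∈ K := by
  by_cases hβ : β.degree = d
  swap
  · rw [hΦ.coeff_eq_zero hβ]; exact zero_mem _
  rw [← coeff_dehom i hΦ β hβ, ← dehom_eq i v hv Φ]
  obtain ⟨P, hP⟩ : shift i v Φ ∈ Set.range (MvPolynomial.map (algebraMap K Ω) (σ := Fin n)) := by
    refine ⟨∑ γ ∈ (shift i v Φ).support, monomial γ ⟨_, h γ⟩, ?_⟩
    conv_rhs => rw [as_sum (shift i v Φ)]
    simp [map_sum, map_monomial]
  rw [← hP, show (fun a => X a - C (v (i.succAbove a))) = fun a => MvPolynomial.map (algebraMap K Ω)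
      (X a - C (⟨_, hvK a⟩ : K)) by funext a; simp, ← map_bind₁, coeff_map]
  exact SetLike.coe_mem _

theorem card_mons_succ (n d : ℕ) :
    (mons (n + 1) d).card = ∑ j ∈ Finset.range (d + 1), (n + j - 1).choose j := by
  rw [card_mons]
  induction d with
  | zero => simp
  | succ d ih =>
    rw [Finset.sum_range_succ, ← ih, show n + 1 + (d + 1) - 1 = (n + d) + 1 by omega,
      Nat.choose_succ_succ', show n + 1 + d - 1 = n + d by omega, show n + (d + 1) - 1 = n + d by omega]

/-- For a form with algebraically independent coefficients the lines through each of its zeros are few. -/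
theorem core {k : Type u} {Ω : Type v} [Field k] [Infinite k] [Field Ω] [Algebra k Ω] [IsAlgClosed Ω]
    {d : ℕ} (hd : d < n) (Φ : MvPolynomial (Fin (n + 1)) Ω) (hΦ : Φ.IsHomogeneous d)
    (hind : AlgebraicIndependent k fun β : ↥(mons (n + 1) d) => coeff β.1 Φ)
    (v : Fin (n + 1) → Ω) (hv : v i = 1) (h0 : eval v Φ = 0) :
    ∃ Q : Fin (n - d) → Fin n → k, ∀ y : Fin n → Ω,
      (∀ j, j < d → eval y (part i v Φ (j + 1)) = 0) → (∀ b, dot (Q b) y = 0) → y = 0 := by
  classical
  rcases chain (k := k) (fun j => part i v Φ (j + 1)) (fun j => part_isHomogeneous i v Φ (j + 1)) d hd with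
    h | ⟨S, hS, hS'⟩
  · exact h
  exfalso
  obtain ⟨S', hS'v, hS'S, hcard⟩ : ∃ S' : Finset Ω, (∀ a, v (i.succAbove a) ∈ (S' : Set Ω)) ∧
      (S : Set Ω) ⊆ (S' : Set Ω) ∧ S'.card ≤ S.card + n := by
    refine ⟨S ∪ Finset.univ.image fun a => v (i.succAbove a), fun a => ?_, ?_, ?_⟩
    · exact Finset.mem_coe.2 (Finset.mem_union_right _ (Finset.mem_image_of_mem _ (Finset.mem_univ a)))
    · exact fun s hs => Finset.mem_coe.2 (Finset.mem_union_left _ hs)
    · exact (Finset.card_union_le _ _).trans (Nat.add_le_add_left (Finset.card_image_le.trans (by simp)) _)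
  have hmem : ∀ β, coeff β Φ ∈ Cl k (S' : Set Ω) := by
    refine coeff_mem i (Cl k (S' : Set Ω)) v hv (fun a => subset_Cl k _ (hS'v a)) hΦ fun γ => ?_
    rcases Nat.eq_zero_or_pos γ.degree with h | h
    · rw [(Finsupp.degree_eq_zero_iff γ).1 h, coeff_shift_zero, h0]
      exact zero_mem _
    by_cases hle : γ.degree ≤ d
    · have := hS' (γ.degree - 1) (by omega) γ
      rw [part, coeff_homogeneousComponent, if_pos (by omega)] at this
      exact Cl_mono k (hS'S.trans (subset_Cl k _)) this
    · rw [coeff_eq_zero_of_totalDegree_lt (lt_of_le_of_lt (totalDegree_shift_le i v hΦ) ?_)]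
      · exact zero_mem _
      · show d < γ.degree
        omega
  have h1 := card_le_of_indep k _ hind S' fun β => hmem β.1
  rw [Fintype.card_coe, card_mons_succ, Finset.sum_range_succ'] at h1
  simp only [card_mons] at hS
  simp only [Nat.choose_zero_right] at h1
  omega

end Groth.Agent.GenLines
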