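import Groth.Agent.GenLines.Spread
import Groth.Agent.GenDim.Planes
import Groth.Agent.SyntLib.Field
import Groth.Prelude.Def_W4c2ratcurvhypCodim

/-!
# Lines through the points of a general hypersurface
-/

set_option autoImplicit false
noncomputable section

open MvPolynomial

universe u

namespace Groth.Agent.GenLines

variable {k : Type u} [Field k] [IsAlgClosed k]

theorem le_height_of_zeros {N c d : ℕ} {ι : Type*} [Fintype ι] (H : ι → MvPolynomial (Fin N) k) (e : ι → ℕ)
    (hH : ∀ t, (H t).IsHomogeneous (e t)) (L : Fin c → MvPolynomial (Fin N) k) (hL : ∀ b, (L b).IsHomogeneous 1)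
    (h0 : ∀ x : Fin N → k, (∀ t, eval x (H t) = 0) → (∀ b, eval x (L b) = 0) → x = 0) (hcd : c + d ≤ N)
    (I : Ideal (MvPolynomial (Fin N) k)) (hI : ∀ t, H t ∈ I) : (d : ℕ∞) ≤ I.height := by
  classical
  rw [Ideal.height_eq_inf_minimalPrimes]
  refine le_iInf₂ fun P hP => ?_
  have := hP.1.1
  obtain ⟨a, b, ha, hb, hab⟩ := SyntLib.height_add_dim_poly P
  rw [ha]
  norm_cast
  -- the dimension of the quotient is at most `c`
  let B := MvPolynomial (Fin N) k ⧸ P
  obtain ⟨b', hb₁, hb₂⟩ := DimFormula.exists_trdeg_eq_ringKrullDim k B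
  have hbb : b = b' := by
    rw [hb] at hb₂
    exact_mod_cast hb₂
  subst hbb
  obtain ⟨T, hT⟩ := exists_isTranscendenceBasis k B
  have hTcard : Cardinal.mk T = (b : Cardinal) := hT.cardinalMk_eq_trdeg.trans hb₁
  have : Finite T := Cardinal.lt_aleph0_iff_finite.1 (hTcard ▸ Cardinal.natCast_lt_aleph0)
  let eT : Fin b ≃ T := (Finite.equivFinOfCardEq (by
    rw [Nat.card, hTcard, Cardinal.toNat_natCast])).symm
  let Ω := AlgebraicClosure (FractionRing B)
  let π : B →ₐ[k] Ω := (IsScalarTower.toAlgHom k (FractionRing B) Ω).comp (IsScalarTower.toAlgHom k B _)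
  have hπ : Function.Injective π :=
    (algebraMap (FractionRing B) Ω).injective.comp (IsFractionRing.injective B (FractionRing B))
  let x : Fin N → Ω := fun l => π (Ideal.Quotient.mkₐ k P (X l))
  have hev : ∀ p : MvPolynomial (Fin N) k, aeval x p = π (Ideal.Quotient.mkₐ k P p) := fun p =>
    AlgHom.congr_fun (algHom_ext (f := aeval x) (g := π.comp (Ideal.Quotient.mkₐ k P))
      fun l => by rw [aeval_X]; rfl) p
  let S : Finset Ω := Finset.univ.image fun t => aeval x (L t)
  let E := Cl k (S : Set Ω)
  have hmem : ∀ l, ∃ a : ℕ, (X l : MvPolynomial (Fin N) k) ^ a ∈ Ideal.span (Set.range (Sum.elim H L)) :=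
    exists_pow_mem (Ω := k) _ fun y hy => h0 y (fun t => by simpa [aeval_eq_eval] using hy (Sum.inl t))
      (fun t => by simpa [aeval_eq_eval] using hy (Sum.inr t))
  let up := MvPolynomial.map (σ := Fin N) (algebraMap k E)
  have hup : ∀ p, aeval x (up p) = aeval x p := fun p => aeval_map_algebraMap E x p
  have hxE : ∀ l, x l ∈ E := fun l => by
    refine mem_Cl_of_isAlgebraic k (isAlgebraic_point (E := E) (fun t => up (H t)) e (fun t => (hH t).map _)
      (fun t => up (L t)) (fun t => (hL t).map _) (fun l => ?_) x (fun t => ?_) (fun t => ?_) l)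
    · obtain ⟨a, ha⟩ := hmem l
      refine ⟨a, ?_⟩
      have h := Ideal.mem_map_of_mem up ha
      rw [Ideal.map_span, map_pow, ← Set.range_comp] at h
      simp only [up, MvPolynomial.map_X] at h
      refine Ideal.span_mono ?_ h
      rintro _ ⟨t, rfl⟩
      exact ⟨t, by cases t <;> rfl⟩
    · rw [hup, hev, show Ideal.Quotient.mkₐ k P (H t) = 0 from
        Ideal.Quotient.eq_zero_iff_mem.2 (hP.1.2 (hI t)), map_zero]
    · exact ⟨⟨_, subset_Cl k _ (Finset.mem_coe.2 (Finset.mem_image_of_mem _ (Finset.mem_univ t)))⟩, (hup _).symm⟩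
  have hall : ∀ y : B, π y ∈ E := fun y => by
    obtain ⟨p, rfl⟩ := Ideal.Quotient.mk_surjective y
    show π (Ideal.Quotient.mkₐ k P p) ∈ E
    rw [← hev]
    induction p using MvPolynomial.induction_on with
    | C r => rw [aeval_C]; exact E.algebraMap_mem r
    | add p q hp hq => rw [map_add]; exact add_mem hp hq
    | mul_X p l hp => rw [map_mul, aeval_X]; exact mul_mem hp (hxE l)
  have hind : AlgebraicIndependent k fun t : Fin b => π (eT t : B) :=
    (hT.1.comp eT eT.injective).map' hπ
  have h1 := card_le_of_indep k _ hind S fun t => hall _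
  have h2 : S.card ≤ c := Finset.card_image_le.trans (by simp)
  simp at h1
  omega

/-- The cone of the lines through a good point has the expected codimension. -/
theorem codimGE_cone [Infinite k] {n d : ℕ} (hd : d ≤ n) (i : Fin (n + 1)) (v : Fin (n + 1) → k) (hv : v i = 1)
    (Φ : MvPolynomial (Fin (n + 1)) k) (Q : Fin (n - d) → Fin n → k)
    (hQ : ∀ y : Fin n → k, (∀ j, j < d → eval y (part i v Φ (j + 1)) = 0) → (∀ b, dot (Q b) y = 0) → y = 0) :
    LefPen.CodimGE k {w : Fin (n + 1) → k | ∀ s t : k, eval (s • v + t • w) Φ = 0} d := by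
  classical
  let π : MvPolynomial (Fin (n + 1)) k →ₐ[k] ↥(LefPen.polyFunAlg k (Fin (n + 1) → k)) :=
    aeval fun l => ⟨⇑(LinearMap.proj l : (Fin (n + 1) → k) →ₗ[k] k), Algebra.subset_adjoin ⟨_, rfl⟩⟩
  have hπ : ∀ p w, (π p).1 w = eval w p := fun p w => by
    induction p using MvPolynomial.induction_on with
    | C a => simp [π]
    | add p q hp hq =>
      rw [map_add, map_add]
      show (π p).1 w + (π q).1 w = _
      rw [hp, hq]
    | mul_X p l hp =>
      rw [map_mul, map_mul, eval_X]
      show (π p).1 w * (π (X l)).1 w = _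
      rw [hp]
      simp [π]
  have hbij : Function.Bijective π := by
    refine ⟨fun p q hpq => MvPolynomial.funext fun w => by rw [← hπ, ← hπ, hpq], ?_⟩
    rw [← AlgHom.range_eq_top, eq_top_iff]
    rintro ⟨f, hf⟩ -
    have hle : LefPen.polyFunAlg k (Fin (n + 1) → k) ≤ π.range.map (LefPen.polyFunAlg k _).val := by
      refine Algebra.adjoin_le ?_
      rintro _ ⟨l, rfl⟩
      refine ⟨π (∑ a, C (l (Pi.single a 1)) * X a), ⟨_, rfl⟩, funext fun w => ?_⟩
      show (π _).1 w = l w
      rw [hπ]
      conv_rhs => rw [pi_eq_sum_univ' w]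
      simp [mul_comm]
    obtain ⟨g, hg, hgf⟩ := hle hf
    exact (show g = (⟨f, hf⟩ : ↥(LefPen.polyFunAlg k _)) from Subtype.ext hgf) ▸ hg
  let e : MvPolynomial (Fin (n + 1)) k ≃+* ↥(LefPen.polyFunAlg k (Fin (n + 1) → k)) :=
    RingEquiv.ofBijective π.toRingHom hbij
  show (d : ℕ∞) ≤ _
  rw [← e.height_comap]
  let σ : Fin n → MvPolynomial (Fin (n + 1)) k := fun a => X (i.succAbove a) - C (v (i.succAbove a)) * X i
  have hσ : ∀ a, (σ a).IsHomogeneous 1 := fun a => (isHomogeneous_X _ _).sub (isHomogeneous_C_mul_X _ _)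
  let H : Fin d → MvPolynomial (Fin (n + 1)) k := fun j => aeval σ (part i v Φ (j.1 + 1))
  have hHh : ∀ j, (H j).IsHomogeneous (j.1 + 1) := fun j => by
    have := (part_isHomogeneous i v Φ (j.1 + 1)).aeval σ hσ
    rwa [one_mul] at this
  let L : Fin (n - d + 1) → MvPolynomial (Fin (n + 1)) k :=
    Fin.lastCases (X i) fun b => ∑ l, C (Q b l) * σ l
  have hL : ∀ b, (L b).IsHomogeneous 1 := fun b => by
    induction b using Fin.lastCases with
    | last => simpa [L] using isHomogeneous_X k i
    | cast b => simpa [L] using IsHomogeneous.sum _ _ _ fun l _ => (hσ l).C_mul (Q b l)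
  have hevσ : ∀ (w : Fin (n + 1) → k) (p : MvPolynomial (Fin n) k),
      eval w (aeval σ p) = eval (fun a => w (i.succAbove a) - v (i.succAbove a) * w i) p := fun w p => by
    induction p using MvPolynomial.induction_on with
    | C a => simp
    | add p q hp hq => simp only [map_add, hp, hq]
    | mul_X p a hp => simp only [map_mul, hp, aeval_X, eval_X, σ, map_sub, eval_C]
  refine le_height_of_zeros H _ hHh L hL (fun w hwH hwL => ?_) (by omega) _ fun j => ?_
  · have hi : w i = 0 := by simpa [L] using hwL (Fin.last _)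
    have hy := hQ (fun a => w (i.succAbove a)) (fun j hj => by
        have h := hwH ⟨j, hj⟩
        simp only [H] at h
        rw [hevσ] at h
        simpa [hi] using h) fun b => by
        simpa [L, dot, σ, hi] using hwL b.castSucc
    funext l
    rcases Fin.eq_self_or_eq_succAbove i l with rfl | ⟨a, rfl⟩
    · exact hi
    · exact congr_fun hy a
  · show π (H j) ∈ LefPen.vanishingFun k _
    intro w hw
    rw [hπ, hevσ]
    set y : Fin n → k := fun a => w (i.succAbove a) - v (i.succAbove a) * w i
    -- the line through `v` in the direction `y` lies on the hypersurface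
    let q : Polynomial k := aeval (fun a => Polynomial.C (y a) * Polynomial.X) (shift i v Φ)
    have hq0 : q = 0 := Polynomial.funext fun t => by
      rw [Polynomial.eval_zero, show q.eval t = eval (t • y) (shift i v Φ) by
        simp only [q]
        induction (shift i v Φ) using MvPolynomial.induction_on with
        | C a => simp
        | add p q hp hq => simp only [map_add, Polynomial.eval_add, hp, hq]
        | mul_X p a hp => simp [hp, mul_comm t]]
      rw [eval_shift]
      refine Eq.trans (congr_arg (fun u => eval u Φ) (funext fun l => ?_)) (hw (1 - t * w i) t)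
      rcases Fin.eq_self_or_eq_succAbove i l with rfl | ⟨a, rfl⟩
      · simp [hv]
      · simp [y]; ring
    have hcoef : ∀ (p : MvPolynomial (Fin n) k) (m : ℕ),
        (aeval (fun a => Polynomial.C (y a) * Polynomial.X) p).coeff m = eval y (homogeneousComponent m p) := by
      intro p m
      induction p using MvPolynomial.induction_on' with
      | add p q hp hq => simp only [map_add, Polynomial.coeff_add, hp, hq]
      | monomial β c =>
        rw [homogeneousComponent_of_mem (isHomogeneous_monomial c rfl), aeval_monomial, Finsupp.prod_pow]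
        simp only [mul_pow, Finset.prod_mul_distrib, ← Polynomial.C_pow, ← map_prod, Finset.prod_pow_eq_pow_sum,
          ← Finsupp.degree_eq_sum]
        rw [← mul_assoc, Polynomial.algebraMap_eq, ← Polynomial.C_mul, Polynomial.coeff_C_mul_X_pow]
        split_ifs <;> simp [eval_monomial]
    have := hcoef (shift i v Φ) (j.1 + 1)
    rw [show aeval (fun a => Polynomial.C (y a) * Polynomial.X) (shift i v Φ) = (0 : Polynomial k) from hq0,
      Polynomial.coeff_zero] at this
    exact this.symm

set_option maxHeartbeats 1000000 in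
/-- Through the points of a general hypersurface pass few lines. -/
theorem isGeneric_cones [Infinite k] (n d : ℕ) (hd : d < n) :
    LefPen.IsGeneric k {Φ : LefPen.Form n k d | ∀ v : Fin (n + 1) → k, v ≠ 0 → eval v Φ.1 = 0 →
      LefPen.CodimGE k {w : Fin (n + 1) → k | ∀ s t : k, eval (s • v + t • w) Φ.1 = 0} d} := by
  classical
  choose f hf0 hf using fun i : Fin (n + 1) => spread (k := k) i d hd (Ideal.span {eval (genPt i d) (genForm d)})
    (Ideal.mem_span_singleton_self _)
  refine GenDim.isGeneric_mono (GenDim.isGeneric_eval_ne_zero (GenDim.formsMap n d) (mons (n + 1) d)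
    (GenDim.formsMap_surj n d) (∏ i, f i) (Finset.prod_ne_zero_iff.2 fun i _ => hf0 i)) ?_
  intro Φ hΦ v hv0 hv
  simp only [Set.mem_ofPred_eq, map_prod, Finset.prod_ne_zero_iff] at hΦ
  obtain ⟨i, hi⟩ := Function.ne_iff.1 hv0
  rw [Pi.zero_apply] at hi
  let v' : Fin (n + 1) → k := (v i)⁻¹ • v
  have hv'i : v' i = 1 := by simp [v', hi]
  have hΦh : Φ.1.IsHomogeneous d := (MvPolynomial.mem_homogeneousSubmodule _ _).1 Φ.2
  let z : Vars n d → k := Sum.elim (fun β => coeff β.1 Φ.1) fun a => v' (i.succAbove a)
  have hmap : MvPolynomial.map (eval z) (genForm d) = Φ.1 := by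
    simp only [genForm, map_sum, map_monomial, eval_X, z, Sum.elim_inl]
    rw [Finset.sum_coe_sort (mons (n + 1) d) (fun β => monomial β (coeff β Φ.1))]
    conv_rhs => rw [as_sum Φ.1]
    refine (Finset.sum_subset (fun β hβ => mem_mons.2 ?_) fun β _ hβ => ?_).symm
    · rw [Finsupp.degree_eq_weight_one]; exact hΦh (mem_support_iff.1 hβ)
    · rw [notMem_support_iff.1 hβ, map_zero]
  have hpt : (fun l => eval z (genPt i d l)) = v' := by
    funext l
    rcases Fin.eq_self_or_eq_succAbove i l with rfl | ⟨a, rfl⟩ <;> simp [genPt, z, hv'i]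
  have hv' : eval v' Φ.1 = 0 := by rw [eval_smul_of_isHomogeneous hΦh, hv, mul_zero]
  have hgood := hf i z (fun r hr => ?_) (hΦ i (Finset.mem_univ i))
  swap
  · obtain ⟨c, rfl⟩ := Ideal.mem_span_singleton.1 hr
    rw [map_mul, show eval z (eval (genPt i d) (genForm d)) = eval v' Φ.1 by
      rw [← hmap, ← hpt, eval_map]; exact eval₂_comp (eval z) (genPt i d) _, hv', zero_mul]
  obtain ⟨Q, hQ⟩ := hgood
  rw [hmap, hpt] at hQ
  have hset : {w : Fin (n + 1) → k | ∀ s t : k, eval (s • v + t • w) Φ.1 = 0} =
      {w : Fin (n + 1) → k | ∀ s t : k, eval (s • v' + t • w) Φ.1 = 0} := by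
    ext w
    constructor <;> intro h s t
    · have := h (s * (v i)⁻¹) t
      simpa [v', mul_smul] using this
    · have := h (s * v i) t
      simpa [v', smul_smul, mul_assoc, hi] using this
  rw [hset]
  exact codimGE_cone hd.le i v' hv'i Φ.1 Q hQ

end Groth.Agent.GenLines
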