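import Groth.Agent.GenLines.Main

/-!
# The sequences of forms with too many common zeros
-/

set_option autoImplicit false
noncomputable section

open MvPolynomial

universe u

namespace Groth.Agent.GenLines

variable {k : Type u} [Field k] [IsAlgClosed k]

/-- The index set of the coefficients of a sequence of forms. -/
abbrev SeqIdx (N d : ℕ) : Type := Σ j : Fin d, ↥(mons N (j.1 + 1))

theorem card_seqIdx (N d : ℕ) :
    Fintype.card (SeqIdx N d) = ∑ i ∈ Finset.range d, (mons N (i + 1)).card := by
  rw [Fintype.card_sigma]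
  simp only [Fintype.card_coe]
  exact (Finset.sum_range (fun i => (mons N (i + 1)).card)).symm

set_option maxHeartbeats 1000000 in
/-- A set of sequences all having many common zeros has large codimension. -/
theorem le_height_seq [Infinite k] {N d M : ℕ} (hd : d < N) (e : SeqIdx N d ≃ Fin M)
    (D : Set (Fin M → k))
    (hD : ∀ z ∈ D, ∀ Q : Fin (N - d) → Fin N → k, ∃ y : Fin N → k, y ≠ 0 ∧
      (∀ j : Fin d, eval y (∑ β : ↥(mons N (j.1 + 1)), monomial β.1 (z (e ⟨j, β⟩))) = 0) ∧
      ∀ b, dot (Q b) y = 0)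
    (I : Ideal (MvPolynomial (Fin M) k)) (hI : ∀ p, p ∈ I ↔ ∀ z ∈ D, eval z p = 0) :
    (N : ℕ∞) ≤ I.height := by
  classical
  rw [Ideal.height_eq_inf_minimalPrimes]
  refine le_iInf₂ fun P hP => ?_
  have := hP.1.1
  let B := MvPolynomial (Fin M) k ⧸ P
  let κ := FractionRing B
  let φ : MvPolynomial (Fin M) k →+* κ := (algebraMap B κ).comp (Ideal.Quotient.mk P)
  let Ω := AlgebraicClosure κ
  let π : B →ₐ[k] Ω := (IsScalarTower.toAlgHom k κ Ω).comp (IsScalarTower.toAlgHom k B κ)
  have hπ : Function.Injective π :=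
    (algebraMap κ Ω).injective.comp (IsFractionRing.injective B κ)
  let ρ : MvPolynomial (Fin M) k →+* Ω := (algebraMap κ Ω).comp φ
  let G : ℕ → MvPolynomial (Fin N) (MvPolynomial (Fin M) k) := fun j =>
    if h : j < d then ∑ β : ↥(mons N (j + 1)), monomial β.1 (X (e ⟨⟨j, h⟩, β⟩)) else 0
  have hG : ∀ j, (G j).IsHomogeneous (j + 1) := fun j => by
    simp only [G]
    split_ifs
    · exact IsHomogeneous.sum _ _ _ fun β _ => isHomogeneous_monomial _ (mem_mons.1 β.2)
    · exact isHomogeneous_zero _ _ _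
  rcases chain (k := k) (fun j => MvPolynomial.map ρ (G j)) (fun j => (hG j).map ρ) d hd with
    ⟨Q, hQ⟩ | ⟨S, hS, hS'⟩
  · -- a certificate that the generic point is outside the set
    exfalso
    let gen : Fin d ⊕ Fin (N - d) → MvPolynomial (Fin N) (MvPolynomial (Fin M) k) :=
      Sum.elim (fun j => G j.1) (fun b => ∑ l, C (C (Q b l)) * X l)
    have hX : ∀ l, ∃ a : ℕ, (X l : MvPolynomial (Fin N) κ) ^ a ∈
        Ideal.span (Set.range fun t => MvPolynomial.map φ (gen t)) := by
      intro l
      refine exists_pow_mem (Ω := Ω) _ (fun y hy => hQ y (fun j hj => ?_) fun b => ?_) l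
      · have h := hy (Sum.inl ⟨j, hj⟩)
        rw [eval_map]
        simp only [gen, Sum.elim_inl, aeval_def, eval₂_map] at h
        exact h
      · have h := hy (Sum.inr b)
        simp only [gen, Sum.elim_inr, map_sum, map_mul, map_C, map_X, aeval_C, aeval_X] at h
        exact h
    choose a ha using hX
    have hfrac : ∀ x : κ, ∃ p q, φ q ≠ 0 ∧ x * φ q = φ p := fun x => by
      obtain ⟨⟨p, q⟩, hx⟩ := IsLocalization.surj (nonZeroDivisors B) x
      obtain ⟨p₀, hp₀⟩ := Ideal.Quotient.mk_surjective p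
      obtain ⟨q₀, hq₀⟩ := Ideal.Quotient.mk_surjective (q : B)
      refine ⟨p₀, q₀, ?_, ?_⟩
      · show algebraMap B κ (Ideal.Quotient.mk P q₀) ≠ 0
        rw [hq₀]
        exact IsLocalization.map_units κ q |>.ne_zero
      · show x * algebraMap B κ (Ideal.Quotient.mk P q₀) = algebraMap B κ (Ideal.Quotient.mk P p₀)
        rw [hq₀, hp₀]
        exact hx
    choose r hr p₀ hp₀ hp₀' using fun l => exists_mem_span φ hfrac (Set.range gen) (X l ^ a l)
      (by rw [← Set.range_comp]; exact ha l)
    have hker : ∀ c, φ c = 0 ↔ c ∈ P := fun c => by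
      show algebraMap B κ (Ideal.Quotient.mk P c) = 0 ↔ _
      rw [map_eq_zero_iff _ (IsFractionRing.injective B κ), Ideal.Quotient.eq_zero_iff_mem]
    -- outside the other components
    have hfin := Ideal.finite_minimalPrimes_of_isNoetherianRing (MvPolynomial (Fin M) k) I
    have hex : ∀ P' ∈ I.minimalPrimes, P' ≠ P → ∃ s ∈ P', s ∉ P := fun P' hP' hne => by
      by_contra hcon
      push Not at hcon
      exact hne (le_antisymm hcon (hP.2 hP'.1 hcon))
    choose! s hs hs' using hex
    let u := (∏ l, r l) * ∏ P' ∈ hfin.toFinset.erase P, s P'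
    have hu : u ∉ P := by
      rw [← hker, map_mul, map_prod, map_prod]
      refine mul_ne_zero (Finset.prod_ne_zero_iff.2 fun l _ => hr l) (Finset.prod_ne_zero_iff.2 fun P' hP' => ?_)
      rw [Ne, hker]
      simp only [Finset.mem_erase, Set.Finite.mem_toFinset] at hP'
      exact hs' P' hP'.2 hP'.1
    refine hu (hP.1.2 ((hI u).2 fun z hz => ?_))
    simp only [u, map_mul, map_prod]
    by_contra hne
    rw [mul_eq_zero, not_or, ← Ne, ← Ne, Finset.prod_ne_zero_iff, Finset.prod_ne_zero_iff] at hne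
    -- the point lies on the component
    have hIz : I ≤ RingHom.ker (eval z) := fun p hp => (hI p).1 hp z hz
    have hzprime : (RingHom.ker (eval z)).IsPrime := RingHom.ker_isPrime _
    obtain ⟨P', hP', hP'z⟩ := Ideal.exists_minimalPrimes_le hIz
    obtain rfl : P' = P := by
      by_contra hne'
      exact hne.2 P' (Finset.mem_erase.2 ⟨hne', hfin.mem_toFinset.2 hP'⟩) (hP'z (hs P' hP' hne'))
    obtain ⟨y, hy0, hy1, hy2⟩ := hD z hz Q
    refine hy0 (funext fun l => ?_)
    have hdiff : MvPolynomial.map (eval z) (p₀ l) = MvPolynomial.map (eval z) (C (r l) * X l ^ a l) := by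
      ext β
      rw [coeff_map, coeff_map, ← sub_eq_zero, ← map_sub]
      refine hP'z ((hker _).1 ?_)
      rw [map_sub, sub_eq_zero, ← coeff_map, ← coeff_map, hp₀' l, map_mul, map_C, map_pow, map_X]
    have hvan : eval y (MvPolynomial.map (eval z) (p₀ l)) = 0 := by
      have hle : Ideal.span (Set.range gen) ≤ RingHom.ker ((eval y).comp (MvPolynomial.map (eval z))) := by
        rw [Ideal.span_le]
        rintro _ ⟨t, rfl⟩
        show eval y (MvPolynomial.map (eval z) (gen t)) = 0
        rcases t with j | b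
        · simp only [gen, Sum.elim_inl, G, dif_pos j.2, map_sum, map_monomial, eval_X]
          rw [← map_sum]
          exact hy1 j
        · simp only [gen, Sum.elim_inr, map_sum, map_mul, map_C, map_X, eval_C, eval_X]
          exact hy2 b
      exact hle (hp₀ l)
    rw [hdiff, map_mul, map_C, eval_mul, eval_C, map_pow, map_X, map_pow, eval_X, mul_eq_zero] at hvan
    exact eq_zero_of_pow_eq_zero (hvan.resolve_left (hne.1 l (Finset.mem_univ l)))
  -- few parameters
  obtain ⟨a, b, ha, hb, hab⟩ := SyntLib.height_add_dim_poly P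
  rw [ha]
  norm_cast
  obtain ⟨b', hb₁, hb₂⟩ := DimFormula.exists_trdeg_eq_ringKrullDim k B
  have hbb : b = b' := by
    rw [hb] at hb₂
    exact_mod_cast hb₂
  subst hbb
  obtain ⟨T, hT⟩ := exists_isTranscendenceBasis k B
  have hTcard : Cardinal.mk T = (b : Cardinal) := hT.cardinalMk_eq_trdeg.trans hb₁
  have : Finite T := Cardinal.lt_aleph0_iff_finite.1 (hTcard ▸ Cardinal.natCast_lt_aleph0)
  let eT : Fin b ≃ T := (Finite.equivFinOfCardEq (by rw [Nat.card, hTcard, Cardinal.toNat_natCast])).symm
  let E := Cl k (S : Set Ω)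
  have hxE : ∀ t : Fin M, ρ (X t) ∈ E := fun t => by
    obtain ⟨⟨j, β⟩, rfl⟩ := e.surjective t
    have h := hS' j.1 j.2 β.1
    simp only [G, dif_pos j.2, map_sum, map_monomial, coeff_sum] at h
    rwa [Finset.sum_eq_single β (fun γ _ hne => by rw [coeff_monomial, if_neg fun hh => hne (Subtype.ext hh)])
      (by simp), coeff_monomial, if_pos rfl] at h
  have hall : ∀ y : B, π y ∈ E := fun y => by
    obtain ⟨p, rfl⟩ := Ideal.Quotient.mk_surjective y
    show π (Ideal.Quotient.mkₐ k P p) ∈ E
    induction p using MvPolynomial.induction_on with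
    | C r =>
      rw [← MvPolynomial.algebraMap_eq, AlgHom.commutes, AlgHom.commutes]
      exact E.algebraMap_mem r
    | add p q hp hq => rw [map_add, map_add]; exact add_mem hp hq
    | mul_X p t hp => rw [map_mul, map_mul]; exact mul_mem hp (hxE t)
  have hind : AlgebraicIndependent k fun t : Fin b => π (eT t : B) :=
    (hT.1.comp eT eT.injective).map' hπ
  have h1 := card_le_of_indep k _ hind S fun t => hall _
  simp at h1
  have h2 := Fintype.card_congr e
  rw [card_seqIdx, Fintype.card_fin] at h2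
  omega

end Groth.Agent.GenLines

namespace Groth.Agent.GenLines

variable {k : Type u} [Field k] [IsAlgClosed k]

theorem dim_le_of_zeros {N c : ℕ} {ι : Type*} [Fintype ι] (H : ι → MvPolynomial (Fin N) k) (e : ι → ℕ)
    (hH : ∀ t, (H t).IsHomogeneous (e t)) (L : Fin c → MvPolynomial (Fin N) k) (hL : ∀ b, (L b).IsHomogeneous 1)
    (h0 : ∀ x : Fin N → k, (∀ t, eval x (H t) = 0) → (∀ b, eval x (L b) = 0) → x = 0) (hc : c ≤ N) :
    ringKrullDim (MvPolynomial (Fin N) k ⧸ Ideal.span (Set.range H)) ≤ (c : WithBot ℕ∞) := by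
  rw [ringKrullDim_quotient, Order.krullDim]
  refine iSup_le fun s => ?_
  let P := s.head.1
  have hPI : ∀ t, H t ∈ P.asIdeal := fun t => s.head.2 (Ideal.subset_span ⟨t, rfl⟩)
  have hh : ((N - c : ℕ) : ℕ∞) ≤ P.asIdeal.height :=
    le_height_of_zeros H e hH L hL h0 (by omega) P.asIdeal hPI
  obtain ⟨a, b, ha, hb, hab⟩ := SyntLib.height_add_dim_poly P.asIdeal
  rw [ha] at hh
  norm_cast at hh
  let s' : LTSeries (PrimeSpectrum.zeroLocus (P.asIdeal : Set (MvPolynomial (Fin N) k))) :=
    LTSeries.mk s.length (fun t => ⟨(s t).1, fun x hx => (LTSeries.head_le s t) hx⟩) fun _ _ h => s.strictMono h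
  have h1 : (s.length : WithBot ℕ∞) ≤ ringKrullDim (MvPolynomial (Fin N) k ⧸ P.asIdeal) := by
    rw [ringKrullDim_quotient]
    exact Order.LTSeries.length_le_krullDim s'
  rw [hb] at h1
  refine h1.trans ?_
  exact_mod_cast (show b ≤ c by omega)

set_option maxHeartbeats 1000000 in
/-- Sequences of forms with an excessive intersection have codimension at least the number of variables. -/
theorem codimGE_seq [Infinite k] (m d : ℕ) (hd : d < m + 1) :
    LefPen.CodimGE k
      {G : (j : Fin d) → LefPen.Form m k (j.1 + 1) |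
        ((m + 2 - d : ℕ) : WithBot ℕ∞) ≤
          ringKrullDim (MvPolynomial (Fin (m + 1)) k ⧸ Ideal.span (Set.range fun j : Fin d => (G j).1))}
      (m + 1) := by
  classical
  let e := Fintype.equivFin (SeqIdx (m + 1) d)
  set M := Fintype.card (SeqIdx (m + 1) d)
  have hhom : ∀ (j : Fin d) (G : LefPen.Form m k (j.1 + 1)), G.1.IsHomogeneous (j.1 + 1) := fun j G =>
    (MvPolynomial.mem_homogeneousSubmodule _ _).1 G.2
  let E : ((j : Fin d) → LefPen.Form m k (j.1 + 1)) ≃ₗ[k] (Fin M → k) :=
    { toFun := fun G t => coeff (e.symm t).2.1 (G (e.symm t).1).1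
      invFun := fun z j => ⟨∑ β : ↥(mons (m + 1) (j.1 + 1)), monomial β.1 (z (e ⟨j, β⟩)),
        (MvPolynomial.mem_homogeneousSubmodule _ _).2 (IsHomogeneous.sum _ _ _ fun β _ =>
          isHomogeneous_monomial _ (mem_mons.1 β.2))⟩
      map_add' := fun G G' => by funext t; simp
      map_smul' := fun c G => by funext t; simp
      left_inv := fun G => by
        funext j
        refine Subtype.ext ?_
        have h : ∀ x : SeqIdx (m + 1) d, coeff (e.symm (e x)).2.1 (G (e.symm (e x)).1).1 = coeff x.2.1 (G x.1).1 :=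
          fun x => congr_arg (fun y : SeqIdx (m + 1) d => coeff y.2.1 (G y.1).1) (e.symm_apply_apply x)
        simp only [h]
        rw [Finset.sum_coe_sort (mons (m + 1) (j.1 + 1)) (fun β => monomial β (coeff β (G j).1))]
        conv_rhs => rw [as_sum (G j).1]
        refine (Finset.sum_subset (fun β hβ => mem_mons.2 ?_) fun β _ hβ => ?_).symm
        · rw [Finsupp.degree_eq_weight_one]; exact hhom j (G j) (mem_support_iff.1 hβ)
        · rw [notMem_support_iff.1 hβ, map_zero]
      right_inv := fun z => by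
        funext t
        have h : ∀ x : SeqIdx (m + 1) d,
            coeff x.2.1 (∑ β : ↥(mons (m + 1) (x.1.1 + 1)), monomial β.1 (z (e ⟨x.1, β⟩))) = z (e x) := by
          rintro ⟨j, β⟩
          rw [coeff_sum, Finset.sum_eq_single β (fun γ _ hne => by
            rw [coeff_monomial, if_neg fun hh => hne (Subtype.ext hh)]) (by simp), coeff_monomial, if_pos rfl]
        exact (h (e.symm t)).trans (congr_arg z (e.apply_symm_apply t)) }
  let V := (j : Fin d) → LefPen.Form m k (j.1 + 1)
  let π : MvPolynomial (Fin M) k →ₐ[k] ↥(LefPen.polyFunAlg k V) :=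
    aeval fun t => ⟨⇑((LinearMap.proj t).comp E.toLinearMap : V →ₗ[k] k), Algebra.subset_adjoin ⟨_, rfl⟩⟩
  have hπ : ∀ p G, (π p).1 G = eval (E G) p := fun p G => by
    induction p using MvPolynomial.induction_on with
    | C a => simp [π]
    | add p q hp hq =>
      rw [map_add, map_add]
      show (π p).1 G + (π q).1 G = _
      rw [hp, hq]
    | mul_X p l hp =>
      rw [map_mul, map_mul, eval_X]
      show (π p).1 G * (π (X l)).1 G = _
      rw [hp]
      simp [π]
  have hbij : Function.Bijective π := by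
    refine ⟨fun p q hpq => MvPolynomial.funext fun z => ?_, ?_⟩
    · rw [← E.apply_symm_apply z, ← hπ, ← hπ, hpq]
    rw [← AlgHom.range_eq_top, eq_top_iff]
    rintro ⟨f, hf⟩ -
    have hle : LefPen.polyFunAlg k V ≤ π.range.map (LefPen.polyFunAlg k V).val := by
      refine Algebra.adjoin_le ?_
      rintro _ ⟨l, rfl⟩
      refine ⟨π (∑ a, C (l (E.symm (Pi.single a 1))) * X a), ⟨_, rfl⟩, funext fun G => ?_⟩
      show (π _).1 G = l G
      rw [hπ]
      conv_rhs => rw [← E.symm_apply_apply G, pi_eq_sum_univ' (E G)]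
      rw [map_sum, map_sum, map_sum]
      refine Finset.sum_congr rfl fun a _ => ?_
      rw [eval_mul, eval_C, eval_X, map_smul, map_smul, smul_eq_mul, mul_comm]
    obtain ⟨g, hg, hgf⟩ := hle hf
    exact (show g = (⟨f, hf⟩ : ↥(LefPen.polyFunAlg k V)) from Subtype.ext hgf) ▸ hg
  let eR : MvPolynomial (Fin M) k ≃+* ↥(LefPen.polyFunAlg k V) := RingEquiv.ofBijective π.toRingHom hbij
  show ((m + 1 : ℕ) : ℕ∞) ≤ _
  rw [← eR.height_comap]
  refine le_height_seq hd e (E '' {G : V | ((m + 2 - d : ℕ) : WithBot ℕ∞) ≤ ringKrullDim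
    (MvPolynomial (Fin (m + 1)) k ⧸ Ideal.span (Set.range fun j : Fin d => (G j).1))}) ?_ _ fun p => ?_
  · rintro _ ⟨G, hG, rfl⟩ Q
    by_contra hcon
    push Not at hcon
    have h1 := dim_le_of_zeros (fun j : Fin d => (G j).1) (fun j => j.1 + 1) (fun j => hhom j (G j))
      (fun b => ∑ l, C (Q b l) * X l) (fun b => IsHomogeneous.sum _ _ _ fun l _ => isHomogeneous_C_mul_X _ _)
      (fun x hxH hxL => by
        by_contra hx
        obtain ⟨b, hb⟩ := hcon x hx fun j => by
          have h := congr_arg (fun W : V => eval x (W j).1) (E.symm_apply_apply G)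
          exact h.trans (hxH j)
        exact hb (by simpa [dot] using hxL b))
      (Nat.sub_le _ _)
    have h2 := le_trans (show ((m + 2 - d : ℕ) : WithBot ℕ∞) ≤ _ from hG) h1
    norm_cast at h2
    omega
  · show π p ∈ LefPen.vanishingFun k _ ↔ _
    constructor
    · rintro h _ ⟨G, hG, rfl⟩
      rw [← hπ]
      exact h G hG
    · intro h G hG
      rw [hπ]
      exact h _ ⟨G, hG, rfl⟩

end Groth.Agent.GenLines
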