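import Groth.Agent.GenLines.Dehom

/-!
# From the generic form to general forms
-/

set_option autoImplicit false
noncomputable section

open MvPolynomial

universe u

namespace Groth.Agent.GenLines

section denominators

variable {R : Type*} {κ : Type*} [CommRing R] [Field κ] (φ : R →+* κ)
  (hφ : ∀ x, ∃ a b, φ b ≠ 0 ∧ x * φ b = φ a) {σ : Type*}

include hφ

theorem exists_scale (p : MvPolynomial σ κ) :
    ∃ r, φ r ≠ 0 ∧ ∃ p₀ : MvPolynomial σ R, MvPolynomial.map φ p₀ = C (φ r) * p := by
  induction p using MvPolynomial.induction_on' with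
  | monomial β c =>
    obtain ⟨a, b, hb, hab⟩ := hφ c
    exact ⟨b, hb, monomial β a, by rw [map_monomial, C_mul_monomial, mul_comm, hab]⟩
  | add p q hp hq =>
    obtain ⟨r, hr, p₀, hp₀⟩ := hp
    obtain ⟨s, hs, q₀, hq₀⟩ := hq
    refine ⟨r * s, by rw [map_mul]; exact mul_ne_zero hr hs, C s * p₀ + C r * q₀, ?_⟩
    simp only [map_add, map_mul, map_C, hp₀, hq₀]
    ring

theorem exists_mem_span (gen : Set (MvPolynomial σ R)) (p : MvPolynomial σ κ)
    (hp : p ∈ Ideal.span (MvPolynomial.map φ '' gen)) :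
    ∃ r, φ r ≠ 0 ∧ ∃ p₀ ∈ Ideal.span gen, MvPolynomial.map φ p₀ = C (φ r) * p := by
  induction hp using Submodule.span_induction with
  | mem x hx =>
    obtain ⟨g, hg, rfl⟩ := hx
    exact ⟨1, by simp, g, Ideal.subset_span hg, by simp⟩
  | zero => exact ⟨1, by simp, 0, zero_mem _, by simp⟩
  | add x y _ _ hx hy =>
    obtain ⟨r, hr, p₀, hp₀, hp₀'⟩ := hx
    obtain ⟨s, hs, q₀, hq₀, hq₀'⟩ := hy
    refine ⟨r * s, by rw [map_mul]; exact mul_ne_zero hr hs, C s * p₀ + C r * q₀,
      add_mem (Ideal.mul_mem_left _ _ hp₀) (Ideal.mul_mem_left _ _ hq₀), ?_⟩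
    simp only [map_add, map_mul, map_C, hp₀', hq₀']
    ring
  | smul a x _ hx =>
    obtain ⟨r, hr, p₀, hp₀, hp₀'⟩ := hx
    obtain ⟨s, hs, a₀, ha₀⟩ := exists_scale φ hφ a
    refine ⟨r * s, by rw [map_mul]; exact mul_ne_zero hr hs, a₀ * p₀, Ideal.mul_mem_left _ _ hp₀, ?_⟩
    simp only [map_mul, hp₀', ha₀, smul_eq_mul]
    ring

end denominators

variable {k : Type u} [Field k] {n : ℕ} (i : Fin (n + 1)) (d : ℕ)

/-- Coordinates: the coefficients of the form and the point in the chart. -/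
abbrev Vars (n d : ℕ) : Type := ↥(mons (n + 1) d) ⊕ Fin n

/-- The generic form. -/
def genForm : MvPolynomial (Fin (n + 1)) (MvPolynomial (Vars n d) k) :=
  ∑ β : ↥(mons (n + 1) d), monomial β.1 (X (Sum.inl β))

/-- The generic point of the chart. -/
def genPt : Fin (n + 1) → MvPolynomial (Vars n d) k :=
  i.insertNth (α := fun _ => MvPolynomial (Vars n d) k) 1 fun a => X (Sum.inr a)

theorem genForm_isHomogeneous : (genForm (k := k) (n := n) d).IsHomogeneous d :=
  IsHomogeneous.sum _ _ _ fun β _ => isHomogeneous_monomial _ (mem_mons.1 β.2)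

theorem coeff_genForm (β : ↥(mons (n + 1) d)) : coeff β.1 (genForm (k := k) (n := n) d) = X (Sum.inl β) := by
  rw [genForm, coeff_sum, Finset.sum_eq_single β, coeff_monomial, if_pos rfl]
  · intro γ _ hne
    rw [coeff_monomial, if_neg fun h => hne (Subtype.ext h)]
  · simp

/-- The lines through the point of `z` are few. -/
def GoodAt (z : Vars n d → k) : Prop :=
  ∃ Q : Fin (n - d) → Fin n → k, ∀ y : Fin n → k,
    (∀ j, j < d → eval y (part i (fun l => eval z (genPt i d l)) (MvPolynomial.map (eval z) (genForm d)) (j + 1)) = 0) →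
    (∀ b, dot (Q b) y = 0) → y = 0

set_option maxHeartbeats 1000000 in
theorem spread [Infinite k] (hd : d < n) :
    ∀ J : Ideal (MvPolynomial (Vars n d) k), eval (genPt (k := k) i d) (genForm d) ∈ J →
      ∃ f : MvPolynomial ↥(mons (n + 1) d) k, f ≠ 0 ∧ ∀ z : Vars n d → k,
        (∀ r ∈ J, eval z r = 0) → eval (fun β => z (Sum.inl β)) f ≠ 0 → GoodAt i d z := by
  classical
  intro J
  induction J using WellFoundedGT.induction with
  | ind P ih =>
  intro he
  by_cases htop : P = ⊤
  · refine ⟨1, one_ne_zero, fun z hz => ?_⟩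
    have := hz 1 (htop ▸ Submodule.mem_top)
    simp at this
  by_cases hprime : P.IsPrime
  swap
  · obtain ⟨a, b, hab, ha, hb⟩ : ∃ a b, a * b ∈ P ∧ a ∉ P ∧ b ∉ P := by
      by_contra hcon
      push Not at hcon
      exact hprime ⟨htop, fun {a b} hab => or_iff_not_imp_left.2 (hcon a b hab)⟩
    have hlt : ∀ c, c ∉ P → P < P ⊔ Ideal.span {c} := fun c hc =>
      lt_of_le_of_ne le_sup_left fun h => hc (h ▸ Submodule.mem_sup_right (Ideal.mem_span_singleton_self c))
    obtain ⟨fa, hfa, Ha⟩ := ih _ (hlt a ha) (Submodule.mem_sup_left he)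
    obtain ⟨fb, hfb, Hb⟩ := ih _ (hlt b hb) (Submodule.mem_sup_left he)
    refine ⟨fa * fb, mul_ne_zero hfa hfb, fun z hz hf => ?_⟩
    rw [map_mul, mul_ne_zero_iff] at hf
    have hmem : ∀ c, eval z c = 0 → ∀ r ∈ P ⊔ Ideal.span {c}, eval z r = 0 := fun c hc r hr => by
      have hle : P ⊔ Ideal.span {c} ≤ RingHom.ker (eval z) :=
        sup_le hz ((Ideal.span_singleton_le_iff_mem _).2 hc)
      exact hle hr
    have h0 := hz _ hab
    rw [map_mul, mul_eq_zero] at h0
    exact h0.elim (fun h => Ha z (hmem a h) hf.1) (fun h => Hb z (hmem b h) hf.2)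
  by_cases hcontr : ∃ f : MvPolynomial ↥(mons (n + 1) d) k, f ≠ 0 ∧ rename Sum.inl f ∈ P
  · obtain ⟨f, hf0, hfP⟩ := hcontr
    refine ⟨f, hf0, fun z hz hf => absurd ?_ hf⟩
    have := hz _ hfP
    rwa [eval_rename] at this
  -- the generic point of the component
  push Not at hcontr
  let B := MvPolynomial (Vars n d) k ⧸ P
  let κ := FractionRing B
  let φ : MvPolynomial (Vars n d) k →+* κ := (algebraMap B κ).comp (Ideal.Quotient.mk P)
  let Ω := AlgebraicClosure κ
  let ρ : MvPolynomial (Vars n d) k →+* Ω := (algebraMap κ Ω).comp φ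
  letI : Algebra k Ω := (ρ.comp C).toAlgebra
  have hker : ∀ r, φ r = 0 ↔ r ∈ P := fun r => by
    show algebraMap B κ (Ideal.Quotient.mk P r) = 0 ↔ _
    rw [map_eq_zero_iff _ (IsFractionRing.injective B κ), Ideal.Quotient.eq_zero_iff_mem]
  have hρker : ∀ r, ρ r = 0 ↔ r ∈ P := fun r => by
    rw [← hker]; exact map_eq_zero_iff _ (algebraMap κ Ω).injective
  have hind : AlgebraicIndependent k
      fun β : ↥(mons (n + 1) d) => coeff β.1 (MvPolynomial.map ρ (genForm (k := k) (n := n) d)) := by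
    rw [algebraicIndependent_iff]
    intro f hf
    by_contra hf0
    refine hcontr f hf0 ((hρker _).1 ?_)
    rw [← hf]
    symm
    simp only [coeff_map, coeff_genForm]
    clear hf hf0
    induction f using MvPolynomial.induction_on with
    | C a => simp; rfl
    | add p q hp hq => simp only [map_add, hp, hq]
    | mul_X p t hp => simp only [map_mul, hp, rename_X, aeval_X]
  have hv : (fun l => ρ (genPt (k := k) i d l)) i = 1 := by simp [genPt]
  have h0 : eval (fun l => ρ (genPt (k := k) i d l)) (MvPolynomial.map ρ (genForm d)) = 0 := by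
    rw [eval_map]
    exact (eval₂_comp ρ (genPt i d) _).symm.trans ((hρker _).2 he)
  obtain ⟨Q, hQ⟩ := core (k := k) i hd _ ((genForm_isHomogeneous d).map ρ) hind _ hv h0
  -- the equations over the ground ring
  let gen : Fin d ⊕ Fin (n - d) → MvPolynomial (Fin n) (MvPolynomial (Vars n d) k) :=
    Sum.elim (fun j => part i (genPt i d) (genForm d) (j.1 + 1)) (fun b => ∑ l, C (C (Q b l)) * X l)
  have hX : ∀ l, ∃ a : ℕ, (X l : MvPolynomial (Fin n) κ) ^ a ∈
      Ideal.span (Set.range fun t => MvPolynomial.map φ (gen t)) := by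
    intro l
    refine exists_pow_mem (Ω := Ω) _ (fun y hy => hQ y (fun j hj => ?_) fun b => ?_) l
    · have h := hy (Sum.inl ⟨j, hj⟩)
      rw [← map_part, eval_map]
      simp only [gen, Sum.elim_inl, aeval_def, eval₂_map] at h
      exact h
    · have h := hy (Sum.inr b)
      simp only [gen, Sum.elim_inr, map_sum, map_mul, map_C, map_X, aeval_C, aeval_X] at h
      exact h
  choose a ha using hX
  have hfrac : ∀ x : κ, ∃ p q, φ q ≠ 0 ∧ x * φ q = φ p := fun x => by
    obtain ⟨⟨p, q⟩, hx⟩ := IsLocalization.surj (nonZeroDivisors B) x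
    obtain ⟨p₀, hp₀⟩ := Ideal.Quotient.mk_surjective p
    obtain ⟨q₀, hq₀⟩ := Ideal.Quotient.mk_surjective (q : B)
    refine ⟨p₀, q₀, ?_, ?_⟩
    · show algebraMap B κ (Ideal.Quotient.mk P q₀) ≠ 0
      rw [hq₀]
      exact IsLocalization.map_units κ q |>.ne_zero
    · show x * algebraMap B κ (Ideal.Quotient.mk P q₀) = algebraMap B κ (Ideal.Quotient.mk P p₀)
      rw [hq₀, hp₀]
      exact hx
  choose r hr p₀ hp₀ hp₀' using fun l => exists_mem_span φ hfrac (Set.range gen) (X l ^ a l)
    (by rw [← Set.range_comp]; exact ha l)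
  -- the induction step
  have hr' : ∏ l, r l ∉ P := fun h => by
    rw [← hker, map_prod] at h
    exact Finset.prod_ne_zero_iff.2 (fun l _ => hr l) h
  obtain ⟨f, hf0, Hf⟩ := ih (P ⊔ Ideal.span {∏ l, r l})
    (lt_of_le_of_ne le_sup_left fun h => hr' (h ▸ Submodule.mem_sup_right (Ideal.mem_span_singleton_self _)))
    (Submodule.mem_sup_left he)
  refine ⟨f, hf0, fun z hz hf => ?_⟩
  by_cases hrz : eval z (∏ l, r l) = 0
  · refine Hf z (fun c hc => ?_) hf
    have hle : P ⊔ Ideal.span {∏ l, r l} ≤ RingHom.ker (eval z) :=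
      sup_le hz ((Ideal.span_singleton_le_iff_mem _).2 hrz)
    exact hle hc
  refine ⟨Q, fun y hy1 hy2 => funext fun l => ?_⟩
  have hrl : eval z (r l) ≠ 0 := by
    rw [map_prod] at hrz
    exact Finset.prod_ne_zero_iff.1 hrz l (Finset.mem_univ l)
  have hdiff : MvPolynomial.map (eval z) (p₀ l) = MvPolynomial.map (eval z) (C (r l) * X l ^ a l) := by
    ext β
    rw [coeff_map, coeff_map, ← sub_eq_zero, ← map_sub]
    refine hz _ ((hker _).1 ?_)
    rw [map_sub, sub_eq_zero, ← coeff_map, ← coeff_map, hp₀' l, map_mul, map_C, map_pow, map_X]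
  have hvan : eval y (MvPolynomial.map (eval z) (p₀ l)) = 0 := by
    have hle : Ideal.span (Set.range gen) ≤ RingHom.ker ((eval y).comp (MvPolynomial.map (eval z))) := by
      rw [Ideal.span_le]
      rintro _ ⟨t, rfl⟩
      show eval y (MvPolynomial.map (eval z) (gen t)) = 0
      rcases t with j | b
      · simp only [gen, Sum.elim_inl, map_part]
        exact hy1 j.1 j.2
      · simp only [gen, Sum.elim_inr, map_sum, map_mul, map_C, map_X, eval_C, eval_X]
        exact hy2 b
    exact hle (hp₀ l)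
  rw [hdiff, map_mul, map_C, eval_mul, eval_C, map_pow, map_X, map_pow, eval_X, mul_eq_zero] at hvan
  exact eq_zero_of_pow_eq_zero (hvan.resolve_left hrl)

end Groth.Agent.GenLines
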